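import Cfsg.Agent.H615.GU.Loc
import Cfsg.Agent.H624.Sl.Defs
import Cfsg.Prelude.Def_LieClassical

/-!
# HUB S4537: the group `GU n F q`

* `dchU n q α` : the linear character `α ∘ det` of `GU n F q`;
* `IsTypU` : the type function is given by `mcol` (`typ g [x] = mcol g x`);
* `UniU` : unipotent elements.
-/

set_option autoImplicit false

open scoped MatrixGroups

namespace Cfsg.Agent.H615.GU

open Cfsg Cfsg.Agent.H624.Sl

universe u

variable {F : Type u} [Field F] {n q : ℕ}

/-- The determinant twisted by a linear character, on `GU n F q`. -/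
noncomputable def dchU (n q : ℕ) (α : Fˣ →* ℂˣ) : Cfsg.GU n F q →* ℂˣ := (dch n α).comp (Cfsg.GU n F q).subtype

/-- the type is given by the columns at the eigenvalues -/
def IsTypU {K : Type*} [Field K] [Algebra F K] (q n : ℕ)
    (T : TypeData (dOrb K (-(q : ℤ))) (-(q : ℤ)) (Cfsg.GU n F q) n) : Prop :=
  ∀ (g : Cfsg.GU n F q) (x : Kˣ), T.typ g (Quotient.mk (orbSetoid K (-(q : ℤ))) x) =
    mcol ((g : GL (Fin n) F) : Matrix (Fin n) (Fin n) F) (x : K)

/-- unipotent elements of `GU n F q` -/
def UniU (x : Cfsg.GU n F q) : Prop := Uni (x : GL (Fin n) F)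

end Cfsg.Agent.H615.GU
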