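import Cfsg.Agent.H615.GU.Col

/-!
# HUB S4537: the columns of an endomorphism, Frobenius orbits, types of matrices

* `colOf T i = dim (ker T ⊓ range (T ^ i)) = dim ker T ^ (i+1) - dim ker T ^ i` (`colOf_add`), a `Col`;
* `Orb K Q` : orbits of `x ↦ x ^ Q` on `Kˣ`, `dOrb` their sizes;
* `mcol A x` : the columns of the matrix `A` over `F` at the eigenvalue `x : K`.
-/

set_option autoImplicit false

open Module

namespace Cfsg.Agent.H615.GU

section

variable {F V : Type*} [Field F] [AddCommGroup V] [Module F V] [Module.Finite F V]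

/-- dimension formula for the columns -/
theorem finrank_ker_pow_succ (T : V →ₗ[F] V) (i : ℕ) :
    finrank F ↥(LinearMap.ker T ⊓ LinearMap.range (T ^ i)) + finrank F (LinearMap.ker (T ^ i)) =
      finrank F (LinearMap.ker (T ^ (i + 1))) := by
  have hle : LinearMap.ker (T ^ i) ≤ LinearMap.ker (T ^ (i + 1)) := by
    intro v hv
    rw [LinearMap.mem_ker] at hv ⊢
    rw [pow_succ', Module.End.mul_apply, hv, map_zero]
  have h := LinearMap.finrank_range_add_finrank_ker ((T ^ i).domRestrict (LinearMap.ker (T ^ (i + 1))))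
  have h1 : LinearMap.range ((T ^ i).domRestrict (LinearMap.ker (T ^ (i + 1)))) =
      LinearMap.ker T ⊓ LinearMap.range (T ^ i) := by
    ext w
    constructor
    · rintro ⟨⟨v, hv⟩, rfl⟩
      refine ⟨?_, ⟨v, rfl⟩⟩
      rw [LinearMap.mem_ker, pow_succ', Module.End.mul_apply] at hv
      exact hv
    · rintro ⟨hw, ⟨v, rfl⟩⟩
      refine ⟨⟨v, ?_⟩, rfl⟩
      rw [LinearMap.mem_ker, pow_succ', Module.End.mul_apply]
      exact hw
  have h2 : finrank F (LinearMap.ker ((T ^ i).domRestrict (LinearMap.ker (T ^ (i + 1))))) =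
      finrank F (LinearMap.ker (T ^ i)) := by
    rw [LinearMap.ker_domRestrict]
    exact (Submodule.comapSubtypeEquivOfLe hle).finrank_eq
  rw [h1, h2] at h
  exact h

theorem finrank_col_eq_zero (T : V →ₗ[F] V) {i : ℕ} (hi : finrank F V ≤ i) :
    finrank F ↥(LinearMap.ker T ⊓ LinearMap.range (T ^ i)) = 0 := by
  have hmono : ∀ j, finrank F ↥(LinearMap.ker T ⊓ LinearMap.range (T ^ (j + 1))) ≤
      finrank F ↥(LinearMap.ker T ⊓ LinearMap.range (T ^ j)) := by
    intro j
    refine Submodule.finrank_mono (inf_le_inf_left _ ?_)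
    rintro _ ⟨v, rfl⟩
    exact ⟨T v, by rw [pow_succ, Module.End.mul_apply]⟩
  have hanti : Antitone fun j => finrank F ↥(LinearMap.ker T ⊓ LinearMap.range (T ^ j)) :=
    antitone_nat_of_succ_le hmono
  by_contra hne
  have hpos : ∀ j ≤ i, 1 ≤ finrank F ↥(LinearMap.ker T ⊓ LinearMap.range (T ^ j)) := fun j hj =>
    (Nat.one_le_iff_ne_zero.2 hne).trans (hanti hj)
  have hgrow : ∀ j ≤ i + 1, j ≤ finrank F (LinearMap.ker (T ^ j)) := by
    intro j
    induction j with
    | zero => intro _; exact Nat.zero_le _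
    | succ j ih =>
      intro hj
      have h1 := ih (by omega)
      have h2 := hpos j (by omega)
      have h3 := finrank_ker_pow_succ T j
      omega
  have h4 := hgrow (i + 1) le_rfl
  have h5 := Submodule.finrank_le (LinearMap.ker (T ^ (i + 1)))
  omega

/-- the columns of an endomorphism (at the eigenvalue `0`) -/
noncomputable def colOf (T : V →ₗ[F] V) : Col :=
  ⟨Finsupp.ofSupportFinite (fun i => finrank F ↥(LinearMap.ker T ⊓ LinearMap.range (T ^ i)))
    ((Set.finite_lt_nat (finrank F V)).subset fun i hi => by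
      by_contra h
      exact hi (finrank_col_eq_zero T (not_lt.1 h))),
  antitone_nat_of_succ_le fun j => by
    refine Submodule.finrank_mono (inf_le_inf_left _ ?_)
    rintro _ ⟨v, rfl⟩
    exact ⟨T v, by rw [pow_succ, Module.End.mul_apply]⟩⟩

theorem colOf_apply (T : V →ₗ[F] V) (i : ℕ) :
    colOf T i = finrank F ↥(LinearMap.ker T ⊓ LinearMap.range (T ^ i)) := rfl

theorem colOf_add (T : V →ₗ[F] V) (i : ℕ) :
    colOf T i + finrank F (LinearMap.ker (T ^ i)) = finrank F (LinearMap.ker (T ^ (i + 1))) :=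
  finrank_ker_pow_succ T i

end

/-- the orbits of `x ↦ x ^ Q` on the units of `K` -/
def orbSetoid (K : Type*) [Field K] (Q : ℤ) : Setoid Kˣ where
  r x y := ∃ i j : ℕ, x ^ (Q ^ i) = y ^ (Q ^ j)
  iseqv := by
    refine ⟨fun x => ⟨0, 0, rfl⟩, fun ⟨i, j, h⟩ => ⟨j, i, h.symm⟩, ?_⟩
    rintro x y z ⟨i, j, h⟩ ⟨k, l, h'⟩
    refine ⟨i + k, l + j, ?_⟩
    rw [pow_add, zpow_mul, h, ← zpow_mul, mul_comm (Q ^ j), zpow_mul, h', ← zpow_mul, ← pow_add]

/-- the orbits of `x ↦ x ^ Q` on the units of `K` -/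
abbrev Orb (K : Type*) [Field K] (Q : ℤ) : Type _ := Quotient (orbSetoid K Q)

/-- the size of an orbit -/
noncomputable def dOrb (K : Type*) [Field K] (Q : ℤ) (o : Orb K Q) : ℕ :=
  Nat.card {x : Kˣ // (Quotient.mk (orbSetoid K Q) x) = o}

/-- the columns of the matrix `A` over `F` at the eigenvalue `x : K` -/
noncomputable def mcol {F K : Type*} [Field F] [Field K] [Algebra F K] {n : ℕ} (A : Matrix (Fin n) (Fin n) F) (x : K) :
    Col :=
  colOf (Matrix.toLin' (A.map (algebraMap F K) - Matrix.scalar (Fin n) x))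

end Cfsg.Agent.H615.GU
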