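import Cfsg.Agent.H615.GU.Types
import Cfsg.Agent.H615.GU.ColOf
import Cfsg.Agent.H577.GLB.StdLab
import Cfsg.Agent.H531.GU.Loc

/-!
# HUB S4537 (GU_n(q)): the evaluation of the standard model at types

Local operators (definitions in H531/GU/Loc.lean, abbreviations here): `Ul t j` (`uu`), `Dl t j` (`us`), `Pl t k`
(`pp`, power sums by Newton), `Dp t k` (`ps`), `lft i` (local operator at `i`), vacuum vectors `vacl`, `vac`.
* `expoZ`, `thO` : the character with label `c` summed over an orbit;
* `Pop θ Q M k c` : multiplication by the cuspidal function; `evR θ Q M` the evaluation of `RS M` at types;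
* `CtxQ`, `detT`, `linT`, `PregT`.
-/

set_option autoImplicit false

open Polynomial
open scoped ComplexConjugate

namespace Cfsg.Agent.H615.GU

section loc

/-- local multiplication by the trivial character of size `j` -/
noncomputable abbrev Ul (t : ℂ) (j : ℕ) : Module.End ℂ (Col → ℂ) := H531.GU.uu t j

/-- the adjoint of `Ul` -/
noncomputable abbrev Dl (t : ℂ) (j : ℕ) : Module.End ℂ (Col → ℂ) := H531.GU.us t j

/-- local multiplication by the power sum of size `k` -/
noncomputable abbrev Pl (t : ℂ) (k : ℕ) : Module.End ℂ (Col → ℂ) := H531.GU.pp t k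

/-- the adjoint of `Pl` -/
noncomputable abbrev Dp (t : ℂ) (k : ℕ) : Module.End ℂ (Col → ℂ) := H531.GU.ps t k

open Classical in
/-- the vacuum -/
noncomputable def vacl : Col → ℂ := fun l => if l = 0 then 1 else 0

end loc

section glob

variable {I : Type*}

/-- the action of a local operator at `i` -/
noncomputable abbrev lft (i : I) : Module.End ℂ (Col → ℂ) →ₐ[ℂ] Module.End ℂ (Ty I → ℂ) := H531.GU.lft i

open Classical in
/-- the vacuum -/
noncomputable def vac : Ty I → ℂ := fun lam => if lam = 0 then 1 else 0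

end glob

section labels

open Cfsg.Agent.H577.GLB.Std

variable {K : Type*} [Field K] (θ : K →*₀ ℂ) (Q : ℤ) (M : ℕ)

/-- the exponent of the character of `T_k = {x | x ^ (Q ^ k - 1) = 1}` with the label `c` -/
def expoZ (k : ℕ) (c : ZMod M) : ℤ := c.val * (Q ^ k - 1) / M

/-- the sum over an orbit of the character with label `c` -/
noncomputable def thO (k : ℕ) (c : ZMod M) (o : Orb K Q) : ℂ :=
  ∑ᶠ x : {x : Kˣ // (Quotient.mk (orbSetoid K Q) x) = o}, θ ((x : Kˣ) : K) ^ expoZ Q M k c

open Classical in
/-- multiplication by the cuspidal function of level `k` with label `c` -/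
noncomputable def Pop (k : ℕ) (c : ZMod M) : Module.End ℂ (Ty (Orb K Q) → ℂ) :=
  ∑ᶠ o : Orb K Q, if 0 < k ∧ dOrb K Q o ∣ k then
    thO θ Q M k c o • lft o (Pl ((Q : ℂ) ^ dOrb K Q o) (k / dOrb K Q o)) else 0

/-- the evaluation of the standard model at types; `evR 1 = vac`, `evR (X v * x) = Pop v (evR x)` once the operators
commute -/
noncomputable def evR : RS M →ₗ[ℂ] (Ty (Orb K Q) → ℂ) :=
  (MvPolynomial.basisMonomials (Var M) ℂ).constr ℂ fun m =>
    (m.support.toList.map fun v => Pop θ Q M v.1 v.2 ^ m v).prod vac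

theorem evR_monomial (m : Var M →₀ ℕ) : evR θ Q M (MvPolynomial.monomial m 1) =
    (m.support.toList.map fun v => Pop θ Q M v.1 v.2 ^ m v).prod vac := by
  have h := (MvPolynomial.basisMonomials (Var M) ℂ).constr_basis ℂ (fun m : Var M →₀ ℕ =>
    (m.support.toList.map fun v => Pop θ Q M v.1 v.2 ^ m v).prod vac) m
  rwa [MvPolynomial.coe_basisMonomials] at h

theorem evR_one : evR θ Q M 1 = vac := by
  have h := evR_monomial θ Q M 0
  simp only [Finsupp.support_zero, Finset.toList_empty, List.map_nil, List.prod_nil, Module.End.one_apply] at h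
  exact h

/-- the standing hypotheses (`N` bounds the dimensions) -/
structure CtxQ (N : ℕ) : Prop where
  finK : Finite K
  inj : Function.Injective θ
  card : Nat.card Kˣ = M
  dvd : ∀ k, 0 < k → k ≤ N → (Q ^ k - 1) ∣ (M : ℤ)
  unit : IsUnit (Q : ZMod M)
  two : 2 ≤ |Q|

open Classical in
/-- the product of the eigenvalues of a type -/
noncomputable def detT (lam : Ty (Orb K Q)) : Kˣ :=
  ∏ᶠ o : Orb K Q, (∏ᶠ x : {x : Kˣ // (Quotient.mk (orbSetoid K Q) x) = o}, (x : Kˣ)) ^ (lam o).size

/-- the linear character with label `a` as a function of the type -/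
noncomputable def linT (a : ZMod M) (lam : Ty (Orb K Q)) : ℂ := θ ((detT Q lam : Kˣ) : K) ^ expoZ Q M 1 a

/-- the type consists of eigenvalues of order prime to `p` -/
def PregT (p : ℕ) (lam : Ty (Orb K Q)) : Prop :=
  ∀ x : Kˣ, lam (Quotient.mk (orbSetoid K Q) x) ≠ 0 → (orderOf x).Coprime p

end labels

end Cfsg.Agent.H615.GU
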