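import Mathlib

/-!
# HUB S4537 (GU_n(q)): partitions by column lengths and the local Hall algebra polynomials

`Col` : partitions given by their column lengths `l 0 ≥ l 1 ≥ …` (finitely supported);
the nilpotent module `k[X]`-module of type `l` has `dim ker X^(i+1) - dim ker X^i = l i`.
* `gb n k` : Gaussian binomial coefficient (polynomial in the size `t` of the field);
* `glp m` : `|GL_m(t)|`;
* `Np l n` : number of submodules of type `n` of the module of type `l`;
* `ap l` : number of automorphisms of the module of type `l`;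
* `Col.ip l m` : `∑ i, l i * m i`, so that `#Hom = t ^ ip l m`;
* `Col.size l`, `Col.ofSize n` (all `l` with size `n`), `Col.below l` (all `k ≤ l`).
-/

set_option autoImplicit false

open Polynomial

namespace Cfsg.Agent.H615.GU

/-- Gaussian binomial coefficient as a polynomial in the field size. -/
noncomputable def gb : ℕ → ℕ → ℤ[X]
  | _, 0 => 1
  | 0, _ + 1 => 0
  | n + 1, k + 1 => X ^ (k + 1) * gb n (k + 1) + gb n k

/-- the order of `GL_m` as a polynomial in the field size. -/
noncomputable def glp (m : ℕ) : ℤ[X] := ∏ j ∈ Finset.range m, (X ^ m - X ^ j)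

@[simp] theorem gb_zero (n : ℕ) : gb n 0 = 1 := by cases n <;> rfl
@[simp] theorem gb_zero_succ (k : ℕ) : gb 0 (k + 1) = 0 := rfl
theorem gb_succ (n k : ℕ) : gb (n + 1) (k + 1) = X ^ (k + 1) * gb n (k + 1) + gb n k := rfl
@[simp] theorem glp_zero : glp 0 = 1 := by simp [glp]

theorem gb_eq_zero : ∀ {n k : ℕ}, n < k → gb n k = 0
  | 0, 0, h => absurd h (lt_irrefl 0)
  | 0, _ + 1, _ => rfl
  | _ + 1, 0, h => absurd h (Nat.not_lt_zero _)
  | n + 1, k + 1, h => by
    rw [gb_succ, gb_eq_zero (n := n) (k := k + 1) (by omega), gb_eq_zero (n := n) (k := k) (by omega)]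
    simp

/-- Partitions, given by their column lengths. -/
def Col : Type := {c : ℕ →₀ ℕ // Antitone c}

namespace Col

instance : CoeFun Col fun _ => ℕ → ℕ := ⟨fun l => l.1⟩
noncomputable instance : DecidableEq Col := Classical.decEq _
instance : Zero Col := ⟨⟨0, fun _ _ _ => le_rfl⟩⟩
instance : Inhabited Col := ⟨0⟩
instance : PartialOrder Col := PartialOrder.lift (fun l : Col => (l.1 : ℕ →₀ ℕ)) Subtype.val_injective

@[simp] theorem zero_apply (i : ℕ) : (0 : Col) i = 0 := rfl
theorem le_def {l m : Col} : l ≤ m ↔ ∀ i, l i ≤ m i := Iff.rfl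
theorem anti (l : Col) : Antitone (l : ℕ → ℕ) := l.2
@[ext] theorem ext {l m : Col} (h : ∀ i, l i = m i) : l = m := Subtype.ext (Finsupp.ext h)

/-- the size of a partition. -/
def size (l : Col) : ℕ := l.1.sum fun _ a => a

/-- the exponent of the number of homomorphisms. -/
def ip (l m : Col) : ℕ := l.1.sum fun i a => a * m i

@[simp] theorem size_zero : size 0 = 0 := Finsupp.sum_zero_index

theorem apply_le_size (l : Col) (i : ℕ) : l i ≤ l.size := by
  by_cases h : i ∈ l.1.support
  · exact Finset.single_le_sum (f := fun i => l i) (fun _ _ => Nat.zero_le _) h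
  · rw [Finsupp.notMem_support_iff] at h
    rw [h]
    exact Nat.zero_le _

theorem pos_of_lt {l : Col} {i j : ℕ} (hj : l j ≠ 0) (h : i ≤ j) : l i ≠ 0 := by
  have := l.anti h
  omega

theorem apply_size (l : Col) : l l.size = 0 := by
  by_contra hne
  have h1 : Finset.range (l.size + 1) ⊆ l.1.support := by
    intro i hi
    rw [Finsupp.mem_support_iff]
    exact pos_of_lt hne (by simpa [Nat.lt_succ_iff] using hi)
  have h2 : (Finset.range (l.size + 1)).card ≤ l.size := by
    calc (Finset.range (l.size + 1)).card ≤ l.1.support.card := Finset.card_le_card h1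
      _ = ∑ _i ∈ l.1.support, 1 := by simp
      _ ≤ ∑ i ∈ l.1.support, l.1 i := Finset.sum_le_sum fun i hi => by
          rw [Finsupp.mem_support_iff] at hi
          omega
      _ = l.size := rfl
  rw [Finset.card_range] at h2
  omega

theorem apply_of_size_le {l : Col} {i : ℕ} (h : l.size ≤ i) : l i = 0 :=
  Nat.le_zero.1 ((l.anti h).trans_eq l.apply_size)

theorem size_eq_sum_range {l : Col} {b : ℕ} (h : l.size ≤ b) : l.size = ∑ i ∈ Finset.range b, l i := by
  refine Finset.sum_subset (s₁ := l.1.support) ?_ ?_
  · intro i hi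
    rw [Finset.mem_range]
    by_contra hcon
    exact (Finsupp.mem_support_iff.1 hi) (apply_of_size_le (h.trans (not_lt.1 hcon)))
  · intro i _ hi
    exact Finsupp.notMem_support_iff.1 hi

theorem finite_of_bound (b : ℕ) : {l : Col | l.size ≤ b}.Finite := by
  let f : Col → (Fin b → Fin (b + 1)) := fun l i => ⟨min (l i) b, by omega⟩
  refine Set.Finite.of_finite_image (f := f) (Set.toFinite _) ?_
  intro l hl m hm hlm
  ext i
  by_cases hi : i < b
  · have := congrArg Fin.val (congrFun hlm ⟨i, hi⟩)
    simp only [f] at this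
    have h1 := (l.apply_le_size i).trans hl
    have h2 := (m.apply_le_size i).trans hm
    omega
  · have h1 : l i = 0 := apply_of_size_le (le_trans hl (not_lt.1 hi))
    have h2 : m i = 0 := apply_of_size_le (le_trans hm (not_lt.1 hi))
    rw [h1, h2]

theorem size_mono {l m : Col} (h : l ≤ m) : l.size ≤ m.size := by
  calc l.size = ∑ i ∈ Finset.range (max l.size m.size), l i := size_eq_sum_range (le_max_left _ _)
    _ ≤ ∑ i ∈ Finset.range (max l.size m.size), m i := Finset.sum_le_sum fun i _ => h i
    _ = m.size := (size_eq_sum_range (le_max_right _ _)).symm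

/-- the partitions of size `n`. -/
noncomputable def ofSize (n : ℕ) : Finset Col :=
  (Set.Finite.subset (finite_of_bound n) (fun l (h : l.size = n) => le_of_eq h) :
    {l : Col | l.size = n}.Finite).toFinset

/-- the partitions contained in `l`. -/
noncomputable def below (l : Col) : Finset Col :=
  (Set.Finite.subset (finite_of_bound l.size) (fun k (h : k ≤ l) => size_mono h) :
    {k : Col | k ≤ l}.Finite).toFinset

@[simp] theorem mem_ofSize {n : ℕ} {l : Col} : l ∈ ofSize n ↔ l.size = n := by simp [ofSize]
@[simp] theorem mem_below {l k : Col} : k ∈ below l ↔ k ≤ l := by simp [below]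

end Col

/-- the number of submodules of type `n` in the module of type `l`, as a polynomial in the field size. -/
noncomputable def Np (l n : Col) : ℤ[X] :=
  ∏ i ∈ n.1.support, (X ^ (n (i + 1) * (l i - n i)) * gb (l i - n (i + 1)) (n i - n (i + 1)))

/-- the number of automorphisms of the module of type `l`, as a polynomial in the field size. -/
noncomputable def ap (l : Col) : ℤ[X] :=
  ∏ i ∈ l.1.support, (X ^ (l i ^ 2 - (l i - l (i + 1)) ^ 2) * glp (l i - l (i + 1)))

/-- the constant `∑_{|l| = r} 1 / ap l (t)` (number of nilpotent matrices divided by `|GL_r|`). -/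
noncomputable def cc (t : ℂ) (r : ℕ) : ℂ := t ^ (r ^ 2 - r) / ((glp r).map (Int.castRingHom ℂ)).eval t

/-- evaluation of an integral polynomial at a complex number. -/
noncomputable abbrev ev (t : ℂ) (P : ℤ[X]) : ℂ := Polynomial.aeval t P

end Cfsg.Agent.H615.GU
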