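import Cfsg.Agent.H615.GU.Col
import Cfsg.Prelude.Def_Characters

/-!
# HUB S4537: types (tuples of partitions indexed by Frobenius orbits) and the operators `U_j`

`I` : index set (orbits of `x ↦ x ^ Q` on the multiplicative group of an algebraic closure), `d i` the degree
of the orbit `i`, `Q : ℤ` (`Q = q` for `GL_n(q)`, `Q = -q` for `GU_n(q)`).
* `Ty I = I →₀ Col`, `tdeg`, `tip` (exponent of the Weil kernel), `Ng`, `Ag` (products of the local polynomials
  evaluated at `Q ^ d i`);
* `tbelow`, `tofDeg` finite sets of types;
* `Uop j` : multiplication by the trivial character of degree `j` in the (Ennola) Hall algebra;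
* `TypeData` : a finite group `G` whose classes are the types of degree `n` with the right cardinalities.
-/

set_option autoImplicit false

namespace Cfsg.Agent.H615.GU

variable {I : Type*}

/-- types -/
abbrev Ty (I : Type*) := I →₀ Col

section

variable (d : I → ℕ) (Q : ℤ)

/-- the degree of a type -/
def tdeg (lam : Ty I) : ℕ := lam.sum fun i l => d i * l.size

/-- the exponent of the Weil kernel -/
noncomputable def tip (lam mu : Ty I) : ℕ := lam.sum fun i l => d i * l.ip (mu i)

/-- global number of subobjects of type `nu` -/
noncomputable def Ng (lam nu : Ty I) : ℂ := ∏ i ∈ nu.support, ev ((Q : ℂ) ^ d i) (Np (lam i) (nu i))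

/-- global number of automorphisms (up to sign) -/
noncomputable def Ag (lam : Ty I) : ℂ := ∏ i ∈ lam.support, ev ((Q : ℂ) ^ d i) (ap (lam i))

open Classical in
/-- the types of degree `n` (empty if there are infinitely many) -/
noncomputable def tofDeg (n : ℕ) : Finset (Ty I) :=
  if h : {lam : Ty I | tdeg d lam = n}.Finite then h.toFinset else ∅

end

theorem finite_below (lam : Ty I) : {k : Ty I | ∀ i, k i ≤ lam i}.Finite := by
  classical
  have h1 : ∀ k : Ty I, (∀ i, k i ≤ lam i) → k.support ⊆ lam.support := by
    intro k hk i hi
    rw [Finsupp.mem_support_iff] at hi ⊢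
    intro h0
    apply hi
    have := hk i
    rw [h0] at this
    ext j
    exact Nat.le_zero.1 (this j)
  let f : Ty I → (lam.support → Col) := fun k i => k i
  refine Set.Finite.of_finite_image (f := f) ?_ ?_
  · refine Set.Finite.subset (Set.Finite.pi' (t := fun i : lam.support => {c : Col | c ≤ lam i}) ?_) ?_
    · intro i
      exact (Col.below (lam i)).finite_toSet.subset fun c hc => by simpa using hc
    · rintro _ ⟨k, hk, rfl⟩ i
      exact hk i
  · intro k hk k' hk' h
    ext1 i
    by_cases hi : i ∈ lam.support
    · exact congrFun h ⟨i, hi⟩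
    · have e1 : k i = 0 := by
        by_contra hne
        exact hi (h1 k hk (Finsupp.mem_support_iff.2 hne))
      have e2 : k' i = 0 := by
        by_contra hne
        exact hi (h1 k' hk' (Finsupp.mem_support_iff.2 hne))
      rw [e1, e2]

/-- the types contained in `lam` -/
noncomputable def tbelow (lam : Ty I) : Finset (Ty I) := (finite_below lam).toFinset

@[simp] theorem mem_tbelow {lam k : Ty I} : k ∈ tbelow lam ↔ ∀ i, k i ≤ lam i := by
  simp [tbelow]

section

variable (d : I → ℕ) (Q : ℤ)

open Classical in
/-- multiplication by the trivial character of degree `j` -/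
noncomputable def Uop (j : ℕ) : (Ty I → ℂ) →ₗ[ℂ] (Ty I → ℂ) where
  toFun f lam := ∑ k ∈ (tbelow lam).filter fun k => tdeg d k + j = tdeg d lam, Ng d Q lam k * f k
  map_add' f g := by
    funext lam
    simp [mul_add, Finset.sum_add_distrib]
  map_smul' c f := by
    funext lam
    simp only [Pi.smul_apply, smul_eq_mul, RingHom.id_apply, Finset.mul_sum]
    exact Finset.sum_congr rfl fun k _ => by ring

/-- A finite group whose conjugacy classes are the types of degree `n`, with the class sizes given by `Ag`. -/
structure TypeData (G : Type*) [Group G] (n : ℕ) where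
  /-- the type of an element -/
  typ : G → Ty I
  conj : ∀ g h : G, typ (h * g * h⁻¹) = typ g
  deg : ∀ g : G, tdeg d (typ g) = n
  sep : ∀ g g' : G, typ g = typ g' → IsConj g g'
  card : ∀ lam : Ty I, tdeg d lam = n →
    (Nat.card {g : G // typ g = lam} : ℂ) * (Q.sign ^ n * Ag d Q lam) = Nat.card G

end

end Cfsg.Agent.H615.GU
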